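import Groth.Agent.GrpdLib.GrpOver
import Groth.Prelude.Def_NonAbH2

/-! Descent along fppf locally split morphisms, and short exact sequences of group schemes. -/

set_option autoImplicit false

universe u

open CategoryTheory MonoidalCategory CartesianMonoidalCategory MonObj AlgebraicGeometry Limits

namespace Groth.Agent.ExtFppf

variable {S : Scheme.{u}}

/-- A morphism over `S` which has sections locally for the fppf topology. -/
def LocSplit {A B : Over S} (q : A ⟶ B) : Prop :=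
  Sieve.generate (Presieve.singleton q.left) ∈ Scheme.fppfTopology B.left

lemma LocSplit.effectiveEpi {A B : Over S} {q : A ⟶ B} (h : LocSplit q) : EffectiveEpi q.left := by
  rw [← Sieve.effectiveEpimorphic_singleton, Presieve.EffectiveEpimorphic.iff_forall_isSheafFor_yoneda]
  intro Z
  exact (GrothendieckTopology.Subcanonical.isSheaf_of_isRepresentable _).isSheafFor _ h

lemma LocSplit.cancel {A B C : Over S} {q : A ⟶ B} (h : LocSplit q) {a b : B ⟶ C} (e : q ≫ a = q ≫ b) :
    a = b :=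
  haveI := h.effectiveEpi
  GrpdLib.GrpOver.cancel_left q e

lemma LocSplit.exists_desc {A B C : Over S} {q : A ⟶ B} (h : LocSplit q) (φ : A ⟶ C)
    (hφ : ∀ (T : Over S) (a b : T ⟶ A), a ≫ q = b ≫ q → a ≫ φ = b ≫ φ) : ∃ g : B ⟶ C, q ≫ g = φ :=
  haveI := h.effectiveEpi
  (GrpdLib.GrpOver.existsUnique_desc q φ hφ).exists

lemma LocSplit.comp {A B C : Over S} {f : A ⟶ B} {g : B ⟶ C} (hf : LocSplit f) (hg : LocSplit g) :
    LocSplit (f ≫ g) := by
  refine GrothendieckTopology.transitive _ hg _ fun Z r hr => ?_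
  obtain ⟨W, t, g', hg', rfl⟩ := hr
  obtain ⟨⟩ := hg'
  refine GrothendieckTopology.superset_covering _ (fun U v hv => ?_)
    (GrothendieckTopology.pullback_stable _ t hf)
  obtain ⟨W', w, f', hf', e⟩ := hv
  obtain ⟨⟩ := hf'
  exact ⟨A.left, w, (f ≫ g).left, Presieve.singleton_self _, by
    rw [Over.comp_left, ← Category.assoc, e, Category.assoc]⟩

lemma LocSplit.whiskerRight {A B : Over S} {q : A ⟶ B} (h : LocSplit q) (R : Over S) : LocSplit (q ▷ R) := by
  refine GrothendieckTopology.superset_covering _ (fun U v hv => ?_)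
    (GrothendieckTopology.pullback_stable _ (fst B R).left h)
  obtain ⟨W, w, q', hq', e⟩ := hv
  obtain ⟨⟩ := hq'
  let x : Over.mk (v ≫ (B ⊗ R).hom) ⟶ B ⊗ R := Over.homMk v rfl
  let a : Over.mk (v ≫ (B ⊗ R).hom) ⟶ A := Over.homMk w (by
    show w ≫ A.hom = v ≫ (B ⊗ R).hom
    rw [← Over.w q, ← Category.assoc, e, Category.assoc, Over.w])
  have hy : lift a (x ≫ snd B R) ≫ (q ▷ R) = x := by
    refine CartesianMonoidalCategory.hom_ext _ _ ?_ ?_
    · rw [Category.assoc, whiskerRight_fst, lift_fst_assoc]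
      exact Over.OverMorphism.ext e
    · rw [Category.assoc, whiskerRight_snd, lift_snd]
  exact ⟨(A ⊗ R).left, (lift a (x ≫ snd B R)).left, (q ▷ R).left, Presieve.singleton_self _,
    congrArg CommaMorphism.left hy⟩

lemma LocSplit.whiskerLeft {A B : Over S} {q : A ⟶ B} (h : LocSplit q) (R : Over S) : LocSplit (R ◁ q) := by
  refine GrothendieckTopology.superset_covering _ (fun U v hv => ?_)
    (GrothendieckTopology.pullback_stable _ (snd R B).left h)
  obtain ⟨W, w, q', hq', e⟩ := hv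
  obtain ⟨⟩ := hq'
  let x : Over.mk (v ≫ (R ⊗ B).hom) ⟶ R ⊗ B := Over.homMk v rfl
  let a : Over.mk (v ≫ (R ⊗ B).hom) ⟶ A := Over.homMk w (by
    show w ≫ A.hom = v ≫ (R ⊗ B).hom
    rw [← Over.w q, ← Category.assoc, e, Category.assoc, Over.w])
  have hy : lift (x ≫ fst R B) a ≫ (R ◁ q) = x := by
    refine CartesianMonoidalCategory.hom_ext _ _ ?_ ?_
    · rw [Category.assoc, whiskerLeft_fst, lift_fst]
    · rw [Category.assoc, whiskerLeft_snd, lift_snd_assoc]
      exact Over.OverMorphism.ext e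
  exact ⟨(R ⊗ A).left, (lift (x ≫ fst R B) a).left, (R ◁ q).left, Presieve.singleton_self _,
    congrArg CommaMorphism.left hy⟩

lemma LocSplit.tensor {A B A' B' : Over S} {f : A ⟶ B} {f' : A' ⟶ B'} (h : LocSplit f) (h' : LocSplit f') :
    LocSplit (f ⊗ₘ f') := by
  rw [MonoidalCategory.tensorHom_def]
  exact (h.whiskerRight A').comp (h'.whiskerLeft B)

variable {G E P : Over S} [GrpObj G] [GrpObj E] [GrpObj P] {u : G ⟶ E} {v : E ⟶ P}
  (hex : NonAbH1.IsExactSeq Scheme.fppfPrecoverage u v)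

include hex

lemma locSplit : LocSplit v := by
  obtain ⟨R, hR, hsec⟩ := hex.2.2.2.2
  refine GrothendieckTopology.superset_covering _ (fun U g hg => ?_) (Precoverage.generate_mem_toGrothendieck hR)
  obtain ⟨W, t, f, hf, rfl⟩ := hg
  obtain ⟨s, hs⟩ := hsec f hf
  exact ⟨E.left, t ≫ s, v.left, Presieve.singleton_self _, by
    rw [Category.assoc]; exact congrArg (t ≫ ·) hs⟩

lemma comp_v {T : Over S} (g : T ⟶ G) : (g ≫ u) ≫ v = 1 := by
  rw [Category.assoc, hex.2.2.1, MonObj.comp_one]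

lemma injective_u {T : Over S} {a b : T ⟶ G} (h : a ≫ u = b ≫ u) : a = b := by
  have e : lift (1 : T ⟶ E) a = lift (1 : T ⟶ E) b := hex.2.2.2.1.hom_ext (by rw [lift_fst, lift_fst]) (by
    rw [lift_whiskerLeft_assoc, lift_whiskerLeft_assoc, h])
  simpa using congrArg (· ≫ snd E G) e

/-- Two points with the same image differ by a point of the kernel. -/
lemma exists_translate {T : Over S} {a b : T ⟶ E} (h : a ≫ v = b ≫ v) : ∃ g : T ⟶ G, a * (g ≫ u) = b := by
  let w := hex.2.2.2.1.lift a b h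
  refine ⟨w ≫ snd E G, ?_⟩
  have h1 : w ≫ fst E G = a := hex.2.2.2.1.lift_fst _ _ _
  have h2 : w ≫ (E ◁ u) ≫ μ[E] = b := hex.2.2.2.1.lift_snd _ _ _
  have ew : w = lift (w ≫ fst E G) (w ≫ snd E G) := by
    apply CartesianMonoidalCategory.hom_ext <;> simp
  rw [ew, lift_whiskerLeft_assoc, h1, ← Hom.mul_def] at h2
  exact h2

lemma exists_of_comp_v {T : Over S} (x : T ⟶ E) (h : x ≫ v = 1) : ∃ g : T ⟶ G, g ≫ u = x := by
  haveI := hex.2.1
  obtain ⟨g, hg⟩ := exists_translate hex (a := (1 : T ⟶ E)) (b := x) (by rw [MonObj.one_comp, h])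
  exact ⟨g, by rwa [_root_.one_mul] at hg⟩

end Groth.Agent.ExtFppf
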